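import Cfsg.Agent.Spor.MdJ2
import Cfsg.Agent.FG.SpecC

/-! Pointwise tables and a base for `MdJ2.G` in degree 100: letters `y`, action `act`, `mdl`; the action on
`Fin 100` with `codes`, `stab_eq`. -/

set_option maxRecDepth 100000
set_option exponentiation.threshold 100000

namespace Cfsg.Agent.Ico.T

open Cfsg.Agent.Comp Cfsg.Agent.Known Cfsg.Agent.Spor.MdJ2

noncomputable def t0 : ℕ := nat_lit 0xc75645b7efaeb4c12d8d87b17125a1659c79f4eba25270d619d5951d76c1ac0bf792138705cb841713a81f6960e6e78fd2891993675505cd792a899244484c921d789110972d1450aab4258c174c8c284360868c0c04180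

theorem h0 : TabOf 100 7 t0 (Spor.ev (Spor.PP Spor.JJ2m2.nets) [0])⁻¹ :=
  tabOf_of_chk (L := 7) Spor.JJ2m2.ok _ (by decide +kernel)

noncomputable def t1 : ℕ := nat_lit 0xc75645b7efaeb6c0ca9589b1b1269cb10d39f1d21cb488de1a0aab2b7659d40bf7aba3869dcb85ea20dca2a6cc23254a3121165b46a2ea3d15307b75aba24a0f2500d1838892787cf1d66c02844a4cc17340c4880218100

theorem h1 : TabOf 100 7 t1 (Spor.ev (Spor.PP Spor.JJ2m2.nets) [1])⁻¹ :=
  tabOf_of_chk (L := 7) Spor.JJ2m2.ok _ (by decide +kernel)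

noncomputable def t2 : ℕ := nat_lit 0xc76dfe290eeeb3aaca9cf98ab05c4939d4d72f4e2cb56585faf163177c82a58c30d11abc9a038274528f82a681978796c7195a5a116d9a4a934938a3e4443184391c40cdd7140e48a846abd583506ce822c608011a24280

theorem h2 : TabOf 100 7 t2 (Spor.ev (Spor.PP Spor.JJ2m2.nets) [2])⁻¹ :=
  tabOf_of_chk (L := 7) Spor.JJ2m2.ok _ (by decide +kernel)

noncomputable def t3 : ℕ := nat_lit 0xc781fd590eeed4c52e5408eaadc1b289b31b14a85752911df59163187c6d9b9c30e72fbd467b82c987a5b968e491c556cc1b5990b42e9ad332f54423eb84cd14f1806881c8946e48f0568681ab4e8011d265c0901820200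

theorem h3 : TabOf 100 7 t3 (Spor.ev (Spor.PP Spor.JJ2m2.nets) [3])⁻¹ :=
  tabOf_of_chk (L := 7) Spor.JJ2m2.ok _ (by decide +kernel)

noncomputable def t4 : ℕ := nat_lit 0xc78713e776ec5cbd5253879464567a8ad249f5d19b4a6a1559a8599dbf49d4087809af7e9eeb9a6da0b49698e599c5c6cc883c5a86b1a28a332595030208072cc239e5ab06056e2422b52c5714548089f1c04a92040c300

theorem h4 : TabOf 100 7 t4 (Spor.ev (Spor.PP Spor.JJ2m2.nets) [4])⁻¹ :=
  tabOf_of_chk (L := 7) Spor.JJ2m2.ok _ (by decide +kernel)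

noncomputable def t5 : ℕ := nat_lit 0xc78713e876dcdcbd4585d9d5245a6f0ab209ebe3ac676515532992ab7f25ac077829d7bf05c5826d93b48a8471a7834b96202c7a874ca5d09b4a30a1062231992919f5c6c28c7a1049d541d695529091e3804a11040c300

theorem h5 : TabOf 100 7 t5 (Spor.ev (Spor.PP Spor.JJ2m2.nets) [5])⁻¹ :=
  tabOf_of_chk (L := 7) Spor.JJ2m2.ok _ (by decide +kernel)

noncomputable def t6 : ℕ := nat_lit 0xbb69fcbbf7b1c1658a62e95594b358f5ad03c8a6d9c15e248491a2c97c76e15c30e92b76948b8203e8a6a96d8971b6095378aaaa84ed1d4731390883f3e11c1230323601601408b5cb76c0d79a1608da00264b131c28380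

theorem h6 : TabOf 100 7 t6 (Spor.ev (Spor.PP Spor.JJ2m2.nets) [6])⁻¹ :=
  tabOf_of_chk (L := 7) Spor.JJ2m2.ok _ (by decide +kernel)

noncomputable def t7 : ℕ := nat_lit 0xad730d3937aee26d019bc578e6d1c09ea249e76ab534baf998e60bc42c6cada284ded824457906f6e634b238f30732968caea94a8a4706d046244203ec6726852e4468b0e0bf7cedd3806c92ac04291210e182051e2c001

theorem h7 : TabOf 100 7 t7 (Spor.ev (Spor.PP Spor.JJ2m2.nets) [7])⁻¹ :=
  tabOf_of_chk (L := 7) Spor.JJ2m2.ok _ (by decide +kernel)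

noncomputable def tabs : List ℕ := [t0, t1, t2, t3, t4, t5, t6, t7]

def wds : List (List ℕ) := [[0], [1], [2], [3], [4], [5], [6], [7]]

scoped instance fin : Finite G := Nat.finite_of_card_ne_zero (by rw [card]; decide)

noncomputable def y (i : ℕ) : G := (Spor.ev g (nthL [0] wds i))⁻¹

noncomputable abbrev act (i : ℕ) : ℕ → ℕ := get2 7 (nthL t0 tabs i)

section
noncomputable local instance inst : MulAction G ℕ := actOf φ

theorem hy : ActBy y (PtN 100) act :=
  actBy_tabs rep (.cons h0 (.cons h0 (.cons h1 (.cons h2 (.cons h3 (.cons h4 (.cons h5 (.cons h6 (.cons h7 .nil)))))))))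
    (by decide +kernel)

theorem f0 : FixLe G (PtN 100) [0] 100 :=
  FixLe.nil.stepW (isCanon_PtN _) hy 0 100 [[0], [2], [4], [6], [7]] 100 ⟨_, rfl, by decide⟩ (by decide +kernel)

theorem f1 : FixLe G (PtN 100) [1, 0] 6300 :=
  f0.stepW (isCanon_PtN _) hy 1 63 [[0], [6, 4]] 100 ⟨_, rfl, by decide⟩ (by decide +kernel)

theorem f2 : FixLe G (PtN 100) [4, 1, 0] 201600 :=
  f1.stepW (isCanon_PtN _) hy 4 32 [[4, 4], [6, 5, 6, 4, 1]] 100 ⟨_, rfl, by decide⟩ (by decide +kernel)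

theorem f3 : FixLe G (PtN 100) [2, 4, 1, 0] 604800 :=
  f2.stepW (isCanon_PtN _) hy 2 3 [[4, 4, 6, 5, 6, 4, 4, 0]] 100 ⟨_, rfl, by decide⟩ (by decide +kernel)

theorem mdl : Mdl φ 100 8 604800 y act [2, 4, 1, 0] :=
  mdl_of_tabs rep hy (f3.isBase card le_rfl) (by decide) card (by decide)
end

noncomputable scoped instance actFin : MulAction G (Fin 100) := FG.finAct mdl

scoped instance faith : FaithfulSMul G (Fin 100) := FG.finFaithful mdl

/-- the encoding of the points -/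
def E : Enc (Fin 100) 100 := encFin 99

theorem par : Par 100 7 127 := ⟨by decide, by decide⟩

theorem rep_y (i : ℕ) : PRep E 7 127 (nthL t0 tabs i) (y i) := FG.finRep mdl i

theorem codes : CodesIn (PRep E 7 127) tabs (⊤ : Subgroup G) := FG.finCodes mdl

theorem stab_eq : MulAction.stabilizer G (0 : Fin 100) = H :=
  Subgroup.ext fun a => (Fin.ext_iff.trans (stab a).symm)

end Cfsg.Agent.Ico.T
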